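import Groth.Agent.SmoothWeil.EssFree
import Groth.Agent.PropsBasic2.NoethScheme
import Mathlib

/-!
Weil restriction of a closed subscheme along a morphism with a universally schematically dominant
directed family of finite flat subschemes.
-/

set_option autoImplicit false
universe u

open CategoryTheory CategoryTheory.Limits AlgebraicGeometry

noncomputable section

namespace Groth.TorsionDense

/-- A finite flat morphism to a locally Noetherian scheme is essentially free. -/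
theorem isEssentiallyFree_of_finite_flat {X S : Scheme.{u}} [IsLocallyNoetherian S] (f : X ⟶ S)
    [IsFinite f] [Flat f] : SGA3x.IsEssentiallyFree f := by
  intro s
  obtain ⟨_, ⟨U, hU, rfl⟩, hsU, -⟩ :=
    S.isBasis_affineOpens.exists_subset_of_mem_open (show s ∈ (Set.univ : Set S) from trivial) isOpen_univ
  have : IsAffine (U : Scheme.{u}) := hU
  refine ⟨U, hsU, hU, U, inferInstance, 𝟙 _, inferInstance, inferInstance, fun x ↦ ?_⟩
  have : IsAffine (pullback f (𝟙 (U : Scheme.{u}) ≫ (Scheme.Opens.ι U))) :=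
    isAffine_of_isAffineHom (pullback.snd f _)
  have : IsLocallyNoetherian (U : Scheme.{u}) := isLocallyNoetherian_of_isOpenImmersion (Scheme.Opens.ι U)
  have : IsNoetherianRing Γ((U : Scheme.{u}), ⊤) :=
    IsLocallyNoetherian.component_noetherian ⟨⊤, isAffineOpen_top _⟩
  refine ⟨⊤, trivial, isAffineOpen_top _, ?_⟩
  let V : (pullback f (𝟙 (U : Scheme.{u}) ≫ Scheme.Opens.ι U)).Opens := ⊤
  have : IsAffine (V : Scheme.{u}) := isAffineOpen_top _
  have : IsIso V.ι :=
    inferInstanceAs (IsIso (Scheme.topIso _).hom)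
  let m := V.ι ≫ pullback.snd f (𝟙 (U : Scheme.{u}) ≫ Scheme.Opens.ι U)
  have : IsFinite m := inferInstance
  have : Flat m := inferInstance
  algebraize [m.appTop.hom]
  have : Module.Finite Γ((U : Scheme.{u}), ⊤) Γ((V : Scheme.{u}), ⊤) :=
    IsFinite.finite_app (f := m) ⊤ (isAffineOpen_top _)
  have : Module.Flat Γ((U : Scheme.{u}), ⊤) Γ((V : Scheme.{u}), ⊤) :=
    (HasRingHomProperty.iff_of_isAffine (P := @Flat)).mp (inferInstanceAs (Flat m))
  have := Module.finitePresentation_of_finite Γ((U : Scheme.{u}), ⊤) Γ((V : Scheme.{u}), ⊤)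
  exact Module.Flat.projective_of_finitePresentation

variable {B X : Scheme.{u}}

/-- `p g`-base change of a member of a family over `X`. -/
abbrev bc (p : X ⟶ B) {Z : Scheme.{u}} (f : Z ⟶ X) {B' : Scheme.{u}} (g : B' ⟶ B) :
    pullback (f ≫ p) g ⟶ pullback p g :=
  pullback.lift (pullback.fst _ _ ≫ f) (pullback.snd _ _)
    (by rw [Category.assoc]; exact pullback.condition)

/-- After every base change, a closed subscheme containing all members of the family is everything. -/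
def UnivDom (p : X ⟶ B) {ι : Type u} {Z : ι → Scheme.{u}} (f : ∀ i, Z i ⟶ X) : Prop :=
  ∀ (B' : Scheme.{u}) (g : B' ⟶ B) (W : Scheme.{u}) (w : W ⟶ pullback p g), IsClosedImmersion w →
    (∀ i, ∃ l : pullback (f i ≫ p) g ⟶ W, l ≫ w = bc p (f i) g) → IsIso w

lemma exists_iff_ker_le {T S S' : Scheme.{u}} (t : T ⟶ S) [IsClosedImmersion t] (g : S' ⟶ S) :
    (∃ g' : S' ⟶ T, g' ≫ t = g) ↔ t.ker ≤ g.ker := by
  refine ⟨?_, fun h ↦ ⟨IsClosedImmersion.lift t g h, IsClosedImmersion.lift_fac t g h⟩⟩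
  rintro ⟨g', rfl⟩
  exact g'.le_ker_comp t

variable {ι : Type u} {Z : ι → Scheme.{u}} {Y : Scheme.{u}}

theorem exists_locus [IsLocallyNoetherian B] (p : X ⟶ B) (f : ∀ i, Z i ⟶ X) [Nonempty ι]
    (hfin : ∀ i, IsFinite (f i ≫ p)) (hflat : ∀ i, Flat (f i ≫ p))
    (hdir : ∀ i j, ∃ k, (∃ a : Z i ⟶ Z k, a ≫ f k = f i) ∧ ∃ a : Z j ⟶ Z k, a ≫ f k = f j)
    (hdom : UnivDom p f) (y : Y ⟶ X) [IsClosedImmersion y] :
    (∃ (T : Scheme.{u}) (t : T ⟶ B), IsClosedImmersion t ∧
      ∀ (B' : Scheme.{u}) (g : B' ⟶ B), (∃ g' : B' ⟶ T, g' ≫ t = g) ↔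
        ∃ l : pullback p g ⟶ Y, l ≫ y = pullback.fst p g) ∧
    (IsNoetherian B → ∃ n, ∀ (B' : Scheme.{u}) (g : B' ⟶ B),
      (∃ l : pullback p g ⟶ Y, l ≫ y = pullback.fst p g) ↔
        ∃ l : pullback (f n ≫ p) g ⟶ Y, l ≫ y = pullback.fst (f n ≫ p) g ≫ f n) := by
  -- the locus of each member
  have hloc : ∀ i, ∃ I : B.IdealSheafData, ∀ (B' : Scheme.{u}) (g : B' ⟶ B),
      I ≤ g.ker ↔ ∃ l : pullback (f i ≫ p) g ⟶ Y, l ≫ y = pullback.fst (f i ≫ p) g ≫ f i := fun i ↦ by
    have := hfin i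
    have := hflat i
    obtain ⟨T, t, ht, hT, -⟩ := Groth.SmoothWeil.exists_weilLocus_essFree (f i ≫ p) (pullback.fst (f i) y)
      (isEssentiallyFree_of_finite_flat _)
    refine ⟨t.ker, fun B' g ↦ ((exists_iff_ker_le t g).symm.trans (hT B' g)).trans ?_⟩
    constructor
    · rintro ⟨l, hl⟩
      exact ⟨l ≫ pullback.snd _ _, by rw [Category.assoc, ← pullback.condition, ← Category.assoc, hl]⟩
    · rintro ⟨l, hl⟩
      exact ⟨pullback.lift _ l hl.symm, pullback.lift_fst _ _ _⟩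
  choose I hI using hloc
  -- each member is contained in the whole
  have hsub : ∀ (B' : Scheme.{u}) (g : B' ⟶ B), (∃ l : pullback p g ⟶ Y, l ≫ y = pullback.fst p g) ↔
      ∀ i, I i ≤ g.ker := by
    intro B' g
    constructor
    · rintro ⟨l, hl⟩ i
      exact (hI i B' g).2 ⟨bc p (f i) g ≫ l, by rw [Category.assoc, hl, pullback.lift_fst]⟩
    · intro h
      let w := pullback.fst (pullback.fst p g) y
      have : IsIso w := hdom B' g _ w inferInstance fun i ↦ by
        obtain ⟨l, hl⟩ := (hI i B' g).1 (h i)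
        exact ⟨pullback.lift (bc p (f i) g) l (by rw [pullback.lift_fst, hl]), pullback.lift_fst _ _ _⟩
      exact ⟨inv w ≫ pullback.snd _ _, by
        rw [Category.assoc, ← pullback.condition, IsIso.inv_hom_id_assoc]⟩
  -- monotonicity
  have hmono : ∀ i k, (∃ a : Z i ⟶ Z k, a ≫ f k = f i) → I i ≤ I k := by
    rintro i k ⟨a, ha⟩
    rw [← (I k).ker_subschemeι]
    refine (hI i _ _).2 ?_
    obtain ⟨l, hl⟩ := (hI k _ (I k).subschemeι).1 (I k).ker_subschemeι.ge
    refine ⟨pullback.lift (pullback.fst _ _ ≫ a) (pullback.snd _ _)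
      (by rw [Category.assoc, ← Category.assoc a, ha]; exact pullback.condition) ≫ l, ?_⟩
    rw [Category.assoc, hl, pullback.lift_fst_assoc, Category.assoc, ha]
  refine ⟨⟨(⨆ i, I i).subscheme, (⨆ i, I i).subschemeι, inferInstance, fun B' g ↦ ?_⟩, fun hB ↦ ?_⟩
  · rw [exists_iff_ker_le, Scheme.IdealSheafData.ker_subschemeι, iSup_le_iff, hsub]
  · have := hB
    have := Groth.PropsBasic2.wellFoundedGT_idealSheafData B
    obtain ⟨_, ⟨n, rfl⟩, hn⟩ := (wellFounded_gt (α := B.IdealSheafData)).has_min (Set.range I)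
      (Set.range_nonempty I)
    refine ⟨n, fun B' g ↦ ?_⟩
    rw [hsub, ← hI n]
    refine ⟨fun h ↦ h n, fun h i ↦ le_trans ?_ h⟩
    obtain ⟨k, hi, hk⟩ := hdir i n
    exact le_of_le_of_eq (hmono i k hi) ((eq_of_le_of_not_lt (hmono n k hk) (hn _ ⟨k, rfl⟩)).symm)

end Groth.TorsionDense
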