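import Groth.Agent.TorsionDense.Locus
import Groth.Agent.S4876
import Groth.Prelude.Def_SGA3x

/-!
Universal schematic dominance from schematically dense fibres; base change of it.
-/

set_option autoImplicit false
universe u

open CategoryTheory CategoryTheory.Limits AlgebraicGeometry

noncomputable section

namespace Groth.TorsionDense

variable {B X : Scheme.{u}} {ι : Type u} {Z : ι → Scheme.{u}}

theorem univDom_of_fibres [IsLocallyNoetherian X] (p : X ⟶ B) (f : ∀ i, Z i ⟶ X)
    (hflat : ∀ i, Flat (f i ≫ p))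
    (h : ∀ (s : B) (V : (p.fiber s).Opens) (t : Γ(p.fiber s, V)),
      (∀ i, (MoreMor.fiberMap (f i) p s).app V t = 0) → t = 0) : UnivDom p f := by
  intro B' g W w hw hfac
  have sd := (Groth.Agent.S4876.result p Z f).2 h B' g
  rw [IsClosedImmersion.isIso_iff_ker_eq_bot, eq_bot_iff]
  intro U s hs
  rw [Scheme.Hom.ker_apply, RingHom.mem_ker] at hs
  show s ∈ (⊥ : Ideal _)
  rw [Ideal.mem_bot]
  refine sd U.1 s fun i ↦ ?_
  obtain ⟨l, hl⟩ := hfac i
  have e : ∀ m : pullback (f i ≫ p) g ⟶ pullback p g, m = l ≫ w → m.app U.1 s = 0 := by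
    rintro _ rfl
    show l.app _ (w.app U.1 s) = 0
    exact (congrArg (l.app (w ⁻¹ᵁ U.1)).hom hs).trans (map_zero _)
  refine e _ ?_
  rw [hl]
  apply pullback.hom_ext <;> simp [bc, pullback.map, pullback.lift_fst, pullback.lift_snd]

/-- Universal dominance is stable under base change. -/
theorem UnivDom.baseChange {p : X ⟶ B} {f : ∀ i, Z i ⟶ X} (h : UnivDom p f) {B₁ : Scheme.{u}}
    (γ : B₁ ⟶ B) : UnivDom (pullback.snd p γ) fun i ↦ bc p (f i) γ := by
  intro B' g W w hw hfac
  let e := pullbackLeftPullbackSndIso p γ g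
  suffices IsIso (w ≫ e.hom) from IsIso.of_isIso_comp_right w e.hom
  refine h B' (g ≫ γ) W (w ≫ e.hom) inferInstance fun i ↦ ?_
  obtain ⟨l, hl⟩ := hfac i
  refine ⟨pullback.lift (pullback.lift (pullback.fst _ _) (pullback.snd _ _ ≫ g)
      (by rw [Category.assoc]; exact pullback.condition)) (pullback.snd _ _)
      (by simp [bc, pullback.lift_snd]) ≫ l, ?_⟩
  rw [Category.assoc, reassoc_of% hl]
  apply pullback.hom_ext <;> simp [bc, e, pullback.lift_fst, pullback.lift_snd, pullback.lift_fst_assoc, pullback.lift_snd_assoc]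

end Groth.TorsionDense
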