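import Groth.Agent.TorsionDense.Locus
import Groth.Prelude.Def_SGA3x

/-!
The kernel of the `n`-th power map as a pullback of the unit section.
-/

set_option autoImplicit false
universe u

open CategoryTheory CategoryTheory.Limits MonoidalCategory CartesianMonoidalCategory MonObj GrpObj AlgebraicGeometry

noncomputable section

namespace Groth.TorsionDense

variable {S : Scheme.{u}} (H : Over S) [GrpObj H]

abbrev torIncl (n : ℕ) : pullback η[H].left (𝟙 H ^ n : H ⟶ H).left ⟶ H.left :=
  pullback.snd η[H].left (𝟙 H ^ n : H ⟶ H).left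

theorem exists_lift_tor {W : Over S} (h : W ⟶ H) (n : ℕ) (hh : h ^ n = 1) :
    ∃ a : W.left ⟶ pullback η[H].left (𝟙 H ^ n : H ⟶ H).left, a ≫ torIncl H n = h.left := by
  refine ⟨pullback.lift (toUnit W).left h.left ?_, pullback.lift_snd _ _ _⟩
  rw [← Over.comp_left, ← Over.comp_left, MonObj.comp_pow, Category.comp_id, hh, Hom.one_def]

theorem tor_pow (n : ℕ) :
    (Over.homMk (torIncl H n) rfl : Over.mk (torIncl H n ≫ H.hom) ⟶ H) ^ n = 1 := by
  set h : Over.mk (torIncl H n ≫ H.hom) ⟶ H := Over.homMk (torIncl H n) rfl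
  have e : h ^ n = h ≫ (𝟙 H ^ n : H ⟶ H) := by rw [MonObj.comp_pow, Category.comp_id]
  rw [e, Hom.one_def]
  apply Over.OverMorphism.ext
  rw [Over.comp_left, Over.comp_left]
  show torIncl H n ≫ _ = _
  rw [← pullback.condition]
  congr 1
  show pullback.fst _ _ = torIncl H n ≫ H.hom
  have h2 := congrArg (· ≫ H.hom) (pullback.condition (f := η[H].left) (g := (𝟙 H ^ n : H ⟶ H).left))
  simp only [Category.assoc, Over.w] at h2
  exact (Category.comp_id _).symm.trans h2

theorem exists_tor_mono (n m : ℕ) :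
    ∃ a, a ≫ torIncl H (n * m) = torIncl H n := by
  refine exists_lift_tor H (Over.homMk (torIncl H n) rfl : Over.mk (torIncl H n ≫ H.hom) ⟶ H) (n * m) ?_
  rw [pow_mul, tor_pow, one_pow]

end Groth.TorsionDense
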