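import Groth.Agent.TorsionDense.Dom
import Groth.Agent.TorsionDense.Torsion

/-!
Transporter loci as factorization conditions over `G`.
-/

set_option autoImplicit false
universe u

open CategoryTheory CategoryTheory.Limits MonoidalCategory CartesianMonoidalCategory MonObj GrpObj AlgebraicGeometry

noncomputable section

namespace Groth.TorsionDense

variable {S : Scheme.{u}} {H G K : Over S} [GrpObj G] (u : H ⟶ G) (k : K ⟶ G)

/-- `(h, g) ↦ g u(h) g⁻¹`. -/
abbrev conjMap : H ⊗ G ⟶ G := snd H G * (fst H G ≫ u) * (snd H G)⁻¹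

lemma comp_conjMap {W : Over S} (m : W ⟶ H ⊗ G) :
    m ≫ conjMap u = (m ≫ snd H G) * ((m ≫ fst H G) ≫ u) * (m ≫ snd H G)⁻¹ := by
  simp [conjMap, MonObj.comp_mul, GrpObj.comp_inv]

variable {A : Scheme.{u}} (a : A ⟶ pullback H.hom G.hom) (q : A ⟶ G.left)
  (hq : a ≫ pullback.snd H.hom G.hom = q) {X : Over S} (g : X ⟶ G)

include hq
lemma exists_factor_of_conj
    (hP : ∀ (X' : Over S) (x : X' ⟶ X) (h : X' ⟶ H) (b : X'.left ⟶ A),
      b ≫ a ≫ pullback.fst H.hom G.hom = h.left → ∃ κ : X' ⟶ K, (x ≫ g) * (h ≫ u) * (x ≫ g)⁻¹ = κ ≫ k) :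
    ∃ l : pullback q g.left ⟶ pullback (conjMap u).left k.left,
      l ≫ pullback.fst (conjMap u).left k.left = pullback.fst q g.left ≫ a := by
  subst hq
  let W : Over S := Over.mk (pullback.snd (a ≫ pullback.snd H.hom G.hom) g.left ≫ X.hom)
  let x : W ⟶ X := Over.homMk (pullback.snd _ _) rfl
  let m : W ⟶ H ⊗ G := Over.homMk (pullback.fst _ _ ≫ a) (by
    show (pullback.fst _ _ ≫ a) ≫ pullback.fst H.hom G.hom ≫ H.hom =
      pullback.snd (a ≫ pullback.snd H.hom G.hom) g.left ≫ X.hom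
    rw [pullback.condition, Category.assoc, ← Over.w g, ← pullback.condition_assoc, Category.assoc])
  have hm : m ≫ snd H G = x ≫ g := Over.OverMorphism.ext (by
    show (pullback.fst _ _ ≫ a) ≫ pullback.snd H.hom G.hom = pullback.snd _ _ ≫ g.left
    rw [Category.assoc, pullback.condition])
  obtain ⟨κ, hκ⟩ := hP W x (m ≫ fst H G) (pullback.fst _ _) (by
    show _ = (pullback.fst _ _ ≫ a) ≫ pullback.fst H.hom G.hom
    rw [Category.assoc])
  rw [← hm, ← comp_conjMap] at hκ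
  exact ⟨pullback.lift m.left κ.left (congrArg CommaMorphism.left hκ), pullback.lift_fst _ _ _⟩

lemma exists_conj_of_factor
    (hl : ∃ l : pullback q g.left ⟶ pullback (conjMap u).left k.left,
      l ≫ pullback.fst (conjMap u).left k.left = pullback.fst q g.left ≫ a)
    {X' : Over S} (x : X' ⟶ X) (h : X' ⟶ H) (b : X'.left ⟶ A)
    (hb : b ≫ a = (lift h (x ≫ g)).left) :
    ∃ κ : X' ⟶ K, (x ≫ g) * (h ≫ u) * (x ≫ g)⁻¹ = κ ≫ k := by
  subst hq
  obtain ⟨l, hl⟩ := hl
  have hc : (lift h (x ≫ g)) ≫ conjMap u = (x ≫ g) * (h ≫ u) * (x ≫ g)⁻¹ := by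
    rw [comp_conjMap, lift_fst, lift_snd]
  let b' : X'.left ⟶ pullback (a ≫ pullback.snd H.hom G.hom) g.left :=
    pullback.lift b x.left (by
      rw [← Category.assoc, hb, ← Over.comp_left]
      exact congrArg CommaMorphism.left (lift_snd h (x ≫ g)))
  have hk : (b' ≫ l ≫ pullback.snd _ _) ≫ k.left = ((lift h (x ≫ g)) ≫ conjMap u).left := by
    rw [Over.comp_left, ← hb]
    simp only [Category.assoc, ← pullback.condition]
    rw [reassoc_of% hl, pullback.lift_fst_assoc]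
  refine ⟨Over.homMk (b' ≫ l ≫ pullback.snd _ _) ?_, ?_⟩
  · rw [← Over.w k]
    exact ((Category.assoc _ _ _).symm.trans (congrArg (· ≫ G.hom) hk)).trans (Over.w _)
  · rw [← hc]
    exact Over.OverMorphism.ext hk.symm

end Groth.TorsionDense
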